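import Groth.Agent.Lib.RLpsi8.ImmSpec
import Groth.Agent.Lib.RLpsi8.AffPushout
import Groth.Agent.Lib.SymAlgX.Glue
import Groth.Agent.Lib.K0Sub.KerUnit

/-!
# Closed immersions into spectra of symmetric algebras and quotients of modules
-/

universe u

open CategoryTheory CategoryTheory.Limits AlgebraicGeometry TopologicalSpace Opposite

set_option backward.isDefEq.respectTransparency false
set_option backward.isDefEq.respectTransparency.types false

noncomputable section

namespace GrothLib.SymEmbed24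

open SymAlgX

section affine

variable {R R' : Type u} [CommRing R] [CommRing R'] {M M' : Type u} [AddCommGroup M] [AddCommGroup M']
  [Module R M] [Module R' M']

variable (R M) in
theorem exists_deg1 : ∃ (L : SymmetricAlgebra R M →+ M) (c : SymmetricAlgebra R M →+* R),
    (∀ r, c (str R M r) = r) ∧ (∀ x, c (gen R M x) = 0) ∧ (∀ r, L (str R M r) = 0) ∧ (∀ x, L (gen R M x) = x) ∧
      ∀ a b, L (a * b) = c a • L b + c b • L a := by
  letI : Module Rᵐᵒᵖ M := Module.compHom M ((RingHom.id R).fromOpposite mul_comm)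
  haveI : IsCentralScalar R M := ⟨fun _ _ => rfl⟩
  obtain ⟨G, hG1, hG2⟩ := exists_ringHom (R := R) (M := M) (TrivSqZeroExt.inlHom R M)
    ({ toFun := TrivSqZeroExt.inr, map_zero' := TrivSqZeroExt.inr_zero R,
       map_add' := TrivSqZeroExt.inr_add R } : M →+ TrivSqZeroExt R M)
    (fun r x => (TrivSqZeroExt.inl_mul_inr r x).symm)
  refine ⟨{ toFun := fun a => (G a).snd, map_zero' := by rw [map_zero, TrivSqZeroExt.snd_zero],
            map_add' := fun a b => by rw [map_add, TrivSqZeroExt.snd_add] },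
    (TrivSqZeroExt.fstHom R R M).toRingHom.comp G, fun r => ?_, fun x => ?_, fun r => ?_, fun x => ?_, fun a b => ?_⟩
  · show (G (str R M r)).fst = r
    rw [hG1]; rfl
  · show (G (gen R M x)).fst = 0
    rw [hG2]; rfl
  · show (G (str R M r)).snd = 0
    rw [hG1]; rfl
  · show (G (gen R M x)).snd = x
    rw [hG2]; rfl
  · show (G (a * b)).snd = _
    rw [map_mul, TrivSqZeroExt.snd_mul, op_smul_eq_smul]
    rfl

variable (R M) in
/-- The degree one part. -/
def deg1 : SymmetricAlgebra R M →+ M := (exists_deg1 R M).choose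

variable (R M) in
/-- The degree zero part. -/
def deg0 : SymmetricAlgebra R M →+* R := (exists_deg1 R M).choose_spec.choose

theorem deg0_str (r : R) : deg0 R M (str R M r) = r := (exists_deg1 R M).choose_spec.choose_spec.1 r

theorem deg0_gen (x : M) : deg0 R M (gen R M x) = 0 := (exists_deg1 R M).choose_spec.choose_spec.2.1 x

theorem deg1_str (r : R) : deg1 R M (str R M r) = 0 := (exists_deg1 R M).choose_spec.choose_spec.2.2.1 r

theorem deg1_gen (x : M) : deg1 R M (gen R M x) = x := (exists_deg1 R M).choose_spec.choose_spec.2.2.2.1 x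

theorem deg1_mul (a b : SymmetricAlgebra R M) :
    deg1 R M (a * b) = deg0 R M a • deg1 R M b + deg0 R M b • deg1 R M a :=
  (exists_deg1 R M).choose_spec.choose_spec.2.2.2.2 a b

theorem deg1_str_mul (r : R) (a : SymmetricAlgebra R M) : deg1 R M (str R M r * a) = r • deg1 R M a := by
  rw [deg1_mul, deg0_str, deg1_str, smul_zero, add_zero]

theorem deg_symMap {φ : R →+* R'} (f : M →ₛₗ[φ] M') (a : SymmetricAlgebra R M) :
    deg0 R' M' (symMap f a) = φ (deg0 R M a) ∧ deg1 R' M' (symMap f a) = f (deg1 R M a) := by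
  induction a using SymmetricAlgebra.induction with
  | algebraMap r =>
    rw [show algebraMap R (SymmetricAlgebra R M) r = str R M r from rfl, symMap_str, deg0_str, deg0_str, deg1_str,
      deg1_str, map_zero]
    exact ⟨rfl, rfl⟩
  | ι x =>
    rw [show SymmetricAlgebra.ι R M x = gen R M x from rfl, symMap_gen, deg0_gen, deg0_gen, deg1_gen, deg1_gen,
      map_zero]
    exact ⟨rfl, rfl⟩
  | mul a b ha hb =>
    rw [map_mul, map_mul, map_mul, deg1_mul, deg1_mul, ha.1, ha.2, hb.1, hb.2, map_add, map_mul, map_smulₛₗ,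
      map_smulₛₗ]
    exact ⟨rfl, rfl⟩
  | add a b ha hb =>
    simp only [map_add, ha.1, ha.2, hb.1, hb.2, and_self]

end affine

variable {S : Scheme.{u}}

/-- A closed immersion of relative spectra over the base is surjective on sections over affine opens. -/
theorem exists_algHom_surjective {A B : _root_.RelSpec.QCAlg S} (i : B.spec ⟶ A.spec) [IsClosedImmersion i]
    (w : i ≫ A.π = B.π) :
    ∃ ψ : A ⟶ B, ∀ (U : S.Opens), IsAffineOpen U → Function.Surjective (ψ.hom.app (op U)) := by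
  haveI := _root_.RLpsi8.isIso_gammaMap A
  haveI := _root_.RLpsi8.isIso_gammaMap B
  refine ⟨⟨inv A.gammaMap ≫ AffAlg.algHom A.π B.π i w ≫ B.gammaMap, ?_⟩, fun U hU => ?_⟩
  · have h : A.str ≫ inv A.gammaMap = A.π.c := by rw [IsIso.comp_inv_eq]; exact A.π_c_gammaMap.symm
    rw [reassoc_of% h, ← Category.assoc, AffAlg.algHom_comm, B.π_c_gammaMap]
  · have hpre : B.π ⁻¹ᵁ U = i ⁻¹ᵁ (A.π ⁻¹ᵁ U) := (congrArg (fun k => k ⁻¹ᵁ U) w).symm
    have h2 : Function.Surjective ((AffAlg.algHom A.π B.π i w).app (op U)) := by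
      rw [GrothLib.AffAlg8.algHom_app]
      haveI : IsIso (homOfLE (le_of_eq hpre)) :=
        ⟨homOfLE (le_of_eq hpre.symm), Subsingleton.elim _ _, Subsingleton.elim _ _⟩
      intro y
      obtain ⟨z, hz⟩ := (ConcreteCategory.bijective_of_isIso (B.spec.presheaf.map (homOfLE (le_of_eq hpre)).op)).2 y
      obtain ⟨t, rfl⟩ := i.app_surjective _ (hU.preimage A.π) z
      exact ⟨t, hz⟩
    intro b
    obtain ⟨z, rfl⟩ := (ConcreteCategory.bijective_of_isIso (B.gammaMap.app (op U))).2 b
    obtain ⟨t, rfl⟩ := h2 z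
    obtain ⟨a, rfl⟩ := (ConcreteCategory.bijective_of_isIso ((inv A.gammaMap).app (op U))).2 t
    exact ⟨a, rfl⟩

/-- A closed immersion `V(M) → V(E)` over the base gives an epimorphism `E ⟶ M`. -/
theorem exists_epi_of_isClosedImmersion {E M : S.Modules} (hE : Coh.IsQCoh E) (hM : Coh.IsQCoh M)
    {A B : _root_.RelSpec.QCAlg S} {j : E ⟶ A.toModule} {k : M ⟶ B.toModule}
    (hA : _root_.RelSpec.IsSymAlg E A j) (hB : _root_.RelSpec.IsSymAlg M B k)
    (i : B.spec ⟶ A.spec) [IsClosedImmersion i] (w : i ≫ A.π = B.π) :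
    ∃ g : E ⟶ M, Epi g := by
  obtain ⟨ψ, hψ⟩ := exists_algHom_surjective i w
  choose eA hAs hAj using isAffSym_of_isSymAlg hE hA
  choose eB hBs hBj using isAffSym_of_isSymAlg hM hB
  have hnatB : ∀ (U V : S.Opens) (hU : IsAffineOpen U) (hV : IsAffineOpen V) (h : V ≤ U)
      (a : SymmetricAlgebra Γ(S, U) Γ(M, U)),
      (B.presheaf.map (homOfLE h).op).hom (eB U hU a) = eB V hV (resSym M h a) := by
    intro U V hU hV h a
    refine RingHom.congr_fun (f := (B.presheaf.map (homOfLE h).op).hom.comp (eB U hU).toRingHom)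
      (g := (eB V hV).toRingHom.comp (resSym M h)) (ringHom_ext (fun r => ?_) fun x => ?_) a
    · show (B.presheaf.map (homOfLE h).op).hom (eB U hU _) = eB V hV (resSym M h _)
      rw [hBs, resSym, symMap_str, hBs]
      exact (ConcreteCategory.congr_hom (B.str.naturality (homOfLE h).op) r).symm
    · show (B.presheaf.map (homOfLE h).op).hom (eB U hU _) = eB V hV (resSym M h _)
      rw [hBj, resSym, symMap_gen, hBj]
      exact (ConcreteCategory.congr_hom ((Scheme.Modules.toPresheaf S).map k |>.naturality (homOfLE h).op) x).symm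
  have hjs : ∀ (U : S.Opens) (r : Γ(S, U)) (x : Γ(E, U)),
      (show A.presheaf.obj (op U) from j.app U (r • x)) =
        (A.str.app (op U)).hom r * (show A.presheaf.obj (op U) from j.app U x) :=
    fun U r x => Scheme.Modules.Hom.app_smul j r x
  have hψs : ∀ (U : S.Opens) (r : Γ(S, U)),
      (ψ.hom.app (op U)).hom ((A.str.app (op U)).hom r) = (B.str.app (op U)).hom r :=
    fun U r => ConcreteCategory.congr_hom (NatTrans.congr_app ψ.comm (op U)) r
  let jA : ∀ (U : S.Opens), Γ(E, U) → A.presheaf.obj (op U) := fun U x => j.app U x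
  have hj0 : ∀ U, jA U 0 = 0 := fun U => map_zero (j.app U).hom
  have hja : ∀ U x y, jA U (x + y) = jA U x + jA U y := fun U x y => map_add (j.app U).hom x y
  let D : ∀ (U : S.Opens), IsAffineOpen U → A.presheaf.obj (op U) → Γ(M, U) :=
    fun U hU a => deg1 _ _ ((eB U hU).symm ((ψ.hom.app (op U)).hom a))
  obtain ⟨g, hg⟩ := GrothLib.RelSpec.exists_modHom (M := E) (N := M)
    (fun U hU =>
      { toFun := fun x => D U hU (jA U x)
        map_zero' := by
          show deg1 _ _ ((eB U hU).symm ((ψ.hom.app (op U)).hom (jA U 0))) = 0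
          rw [hj0, map_zero, map_zero, map_zero]
        map_add' := fun x y => by
          show deg1 _ _ ((eB U hU).symm ((ψ.hom.app (op U)).hom (jA U (x + y)))) =
            deg1 _ _ ((eB U hU).symm ((ψ.hom.app (op U)).hom (jA U x))) +
            deg1 _ _ ((eB U hU).symm ((ψ.hom.app (op U)).hom (jA U y)))
          rw [hja, map_add, map_add, map_add] })
    (fun U hU r x => by
      show deg1 _ _ ((eB U hU).symm ((ψ.hom.app (op U)).hom (jA U (r • x)))) =
        r • deg1 _ _ ((eB U hU).symm ((ψ.hom.app (op U)).hom (jA U x)))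
      rw [show jA U (r • x) = (A.str.app (op U)).hom r * jA U x from hjs U r x, map_mul, hψs, map_mul, ← hBs U hU r,
        RingEquiv.symm_apply_apply, deg1_str_mul])
    (fun U V hU hV h x => by
      show deg1 _ _ ((eB V hV).symm ((ψ.hom.app (op V)).hom (jA V (GrothLib.RelSpec.mr E h x)))) =
        GrothLib.RelSpec.mr M h (deg1 _ _ ((eB U hU).symm ((ψ.hom.app (op U)).hom (jA U x))))
      have n1 : jA V (GrothLib.RelSpec.mr E h x) = (A.presheaf.map (homOfLE h).op).hom (jA U x) :=
        ConcreteCategory.congr_hom ((Scheme.Modules.toPresheaf S).map j |>.naturality (homOfLE h).op) x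
      have n2 : (ψ.hom.app (op V)).hom ((A.presheaf.map (homOfLE h).op).hom (jA U x)) =
          (B.presheaf.map (homOfLE h).op).hom ((ψ.hom.app (op U)).hom (jA U x)) :=
        ConcreteCategory.congr_hom (ψ.hom.naturality (homOfLE h).op) _
      rw [n1, n2]
      obtain ⟨a, ha⟩ := (eB U hU).surjective ((ψ.hom.app (op U)).hom (jA U x))
      rw [← ha, hnatB U V hU hV h, RingEquiv.symm_apply_apply, RingEquiv.symm_apply_apply]
      exact (deg_symMap (resSL M h) a).2)
  haveI : M.IsQuasicoherent := hM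
  refine ⟨g, GrothLib.K0Sub.epi_of_app_surjective _ fun U m => ?_⟩
  obtain ⟨b, hb⟩ := hψ U.1 U.2 (eB U.1 U.2 (gen _ _ m))
  obtain ⟨a, rfl⟩ := (eA U.1 U.2).surjective b
  have key : ∀ a : SymmetricAlgebra Γ(S, U.1) Γ(E, U.1), ∃ x, g.app U.1 x = D U.1 U.2 (eA U.1 U.2 a) := by
    intro a
    induction a using SymmetricAlgebra.induction with
    | algebraMap r =>
      refine ⟨0, ?_⟩
      show g.app U.1 0 = deg1 _ _ ((eB U.1 U.2).symm ((ψ.hom.app (op U.1)).hom (eA U.1 U.2 (str _ _ r))))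
      rw [hAs, hψs, ← hBs U.1 U.2 r, RingEquiv.symm_apply_apply, deg1_str, map_zero]
    | ι x =>
      refine ⟨x, (hg U.1 U.2 x).trans ?_⟩
      exact congrArg (D U.1 U.2) (hAj U.1 U.2 x).symm
    | mul a b ha hb =>
      obtain ⟨x, hx⟩ := ha
      obtain ⟨y, hy⟩ := hb
      let c := fun t => deg0 Γ(S, U.1) Γ(M, U.1) ((eB U.1 U.2).symm ((ψ.hom.app (op U.1)).hom (eA U.1 U.2 t)))
      refine ⟨c a • y + c b • x, ?_⟩
      rw [map_add, Scheme.Modules.Hom.app_smul, Scheme.Modules.Hom.app_smul, hx, hy]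
      simp only [D, c, map_mul, deg1_mul]
    | add a b ha hb =>
      obtain ⟨x, hx⟩ := ha
      obtain ⟨y, hy⟩ := hb
      refine ⟨x + y, ?_⟩
      rw [map_add, hx, hy]
      simp only [D, map_add]
  obtain ⟨x, hx⟩ := key a
  refine ⟨x, hx.trans ?_⟩
  show deg1 _ _ ((eB U.1 U.2).symm ((ψ.hom.app (op U.1)).hom _)) = m
  erw [hb]
  rw [RingEquiv.symm_apply_apply, deg1_gen]

/-- Algebra maps surjective over an affine cover give closed immersions. -/
theorem isClosedImmersion_specMap_of_cover {A B : _root_.RelSpec.QCAlg S} (ψ : A ⟶ B) {J : Type u}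
    (V : J → S.affineOpens) (hV : (⨆ i, (V i).1) = ⊤) (h : ∀ i, Function.Surjective (ψ.hom.app (op (V i).1))) :
    IsClosedImmersion (_root_.RelSpec.QCAlg.specMap ψ) := by
  refine (IsZariskiLocalAtTarget.iff_of_iSup_eq_top (P := @IsClosedImmersion) (fun i => A.π ⁻¹ᵁ (V i).1) ?_).mpr
    fun i => ?_
  · rw [← Scheme.Hom.preimage_iSup, hV, Scheme.Hom.preimage_top]
  · have hsq : IsPullback (B.ι (V i).1 (V i).2) (Spec.map (ψ.hom.app (op (V i).1))) (_root_.RelSpec.QCAlg.specMap ψ)
        (A.ι (V i).1 (V i).2) := by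
      refine (IsOpenImmersion.isPullback _ _ _ _ ?_ ?_).flip
      · exact _root_.RelSpec.QCAlg.ι_specMap (V i).1 (V i).2 ψ
      · rw [← A.π_preimage (V i).1 (V i).2, ← B.π_preimage (V i).1 (V i).2, ← Scheme.Hom.comp_preimage,
          _root_.RelSpec.QCAlg.specMap_π]
    have : IsClosedImmersion (Spec.map (ψ.hom.app (op (V i).1))) :=
      IsClosedImmersion.spec_of_surjective _ (h i)
    have hr : A.π ⁻¹ᵁ (V i).1 = (A.ι (V i).1 (V i).2).opensRange := A.π_preimage (V i).1 (V i).2
    rw [hr]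
    exact ((MorphismProperty.arrow_mk_iso_iff @IsClosedImmersion
      (morphismRestrictOpensRange (_root_.RelSpec.QCAlg.specMap ψ) (A.ι (V i).1 (V i).2))).trans
      (MorphismProperty.arrow_mk_iso_iff @IsClosedImmersion
        (Arrow.isoMk (hsq.isoPullback).symm (Iso.refl _) (by simp) :
          Arrow.mk (pullback.snd (_root_.RelSpec.QCAlg.specMap ψ) (A.ι (V i).1 (V i).2)) ≅
            Arrow.mk (Spec.map (ψ.hom.app (op (V i).1)))))).mpr this

/-- An affine morphism is a closed subscheme of the spectrum of its direct image. -/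
theorem exists_closedImm_directImage {X Y : Scheme.{u}} (f : X ⟶ Y) [IsAffineHom f] :
    ∃ c : X ⟶ (_root_.RelSpec.QCAlg.directImage f).spec, IsClosedImmersion c ∧
      c ≫ (_root_.RelSpec.QCAlg.directImage f).π = f := by
  let B := _root_.RelSpec.QCAlg.directImage f
  obtain ⟨c, e, h⟩ := _root_.RLpsi8.exists_toSpecDirectImage f
  refine ⟨c, ?_, e⟩
  refine (IsZariskiLocalAtTarget.iff_of_iSup_eq_top (P := @IsClosedImmersion) (fun U : Y.affineOpens => B.π ⁻¹ᵁ U.1) ?_).mpr
    fun U => ?_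
  · rw [← Scheme.Hom.preimage_iSup, iSup_affineOpens_eq_top, Scheme.Hom.preimage_top]
  · have hpre : c ⁻¹ᵁ B.π ⁻¹ᵁ U.1 = f ⁻¹ᵁ U.1 := congrArg (fun k => k ⁻¹ᵁ U.1) e
    have : IsAffine (B.π ⁻¹ᵁ U.1).toScheme := U.2.preimage B.π
    have : IsAffine (c ⁻¹ᵁ B.π ⁻¹ᵁ U.1).toScheme := by rw [hpre]; exact U.2.preimage f
    have hi : IsIso (B.gammaMap.app (op U.1)) := by
      have := _root_.RLpsi8.isIso_gammaMap B; infer_instance
    rw [h, GrothLib.AffAlg8.algHom_app] at hi
    refine IsClosedImmersion.of_surjective_of_isAffine _ ?_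
    have h2 : IsIso (c.app (B.π ⁻¹ᵁ U.1)) := by
      have hl : f ⁻¹ᵁ U.1 ≤ c ⁻¹ᵁ B.π ⁻¹ᵁ U.1 := hpre.ge
      have hm : IsIso (homOfLE hl) := ⟨homOfLE hpre.le, Subsingleton.elim _ _, Subsingleton.elim _ _⟩
      have : IsIso (c.app (B.π ⁻¹ᵁ U.1) ≫ X.presheaf.map (homOfLE hl).op) := hi
      exact IsIso.of_isIso_comp_right _ (X.presheaf.map (homOfLE hl).op)
    rw [Scheme.Hom.appTop, morphismRestrict_app]
    have : IsIso (c.app ((B.π ⁻¹ᵁ U.1).ι ''ᵁ ⊤)) := by rw [Scheme.Opens.ι_image_top]; exact h2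
    exact (ConcreteCategory.bijective_of_isIso _).2

/-- A module map whose image generates the direct image algebra gives a closed immersion into `V(E)`. -/
theorem exists_closedImm_sym {X Y : Scheme.{u}} (f : X ⟶ Y) [IsAffineHom f] (E : Y.Modules) (hE : Coh.IsQCoh E)
    (φ₀ : E ⟶ (_root_.RelSpec.QCAlg.directImage f).toModule) {J : Type u} (V : J → Y.affineOpens)
    (hV : (⨆ i, (V i).1) = ⊤)
    (hgen : ∀ i, Subring.closure (Set.range ((_root_.RelSpec.QCAlg.directImage f).str.app (op (V i).1)).hom ∪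
      Set.range (fun e : Γ(E, (V i).1) =>
        (show (_root_.RelSpec.QCAlg.directImage f).presheaf.obj (op (V i).1) from φ₀.app (V i).1 e))) = ⊤) :
    ∃ (B : _root_.RelSpec.QCAlg Y) (φ : E ⟶ B.toModule) (c : X ⟶ B.spec),
      _root_.RelSpec.IsSymAlg E B φ ∧ IsClosedImmersion c ∧ c ≫ B.π = f := by
  obtain ⟨A, j, hA⟩ := GrothLib.SymAlgX.exists_isSymAlg (E := E) hE
  obtain ⟨ψ, hψ, -⟩ := hA _ φ₀
  have hψs : ∀ i, Function.Surjective (ψ.hom.app (op (V i).1)) := by
    intro i
    show Function.Surjective (ψ.hom.app (op (V i).1)).hom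
    rw [← RingHom.range_eq_top, eq_top_iff, ← hgen i, Subring.closure_le]
    rintro b (⟨r, rfl⟩ | ⟨x, rfl⟩)
    · exact ⟨(A.str.app (op (V i).1)).hom r, ConcreteCategory.congr_hom (NatTrans.congr_app ψ.comm (op (V i).1)) r⟩
    · exact ⟨j.app (V i).1 x, congrArg (fun k : E ⟶ (_root_.RelSpec.QCAlg.directImage f).toModule =>
        (show (_root_.RelSpec.QCAlg.directImage f).presheaf.obj (op (V i).1) from k.app (V i).1 x)) hψ⟩
  haveI := isClosedImmersion_specMap_of_cover ψ V hV hψs
  obtain ⟨c, hc, e⟩ := exists_closedImm_directImage f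
  exact ⟨A, j, c ≫ _root_.RelSpec.QCAlg.specMap ψ, hA, inferInstance,
    by rw [Category.assoc, _root_.RelSpec.QCAlg.specMap_π, e]⟩

end GrothLib.SymEmbed24
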