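import Groth.Agent.Lib.DirImg8.Colim

/-!
# Sections of coproducts of quasi-coherent modules over affine opens
-/

universe u

open CategoryTheory CategoryTheory.Limits AlgebraicGeometry TopologicalSpace Opposite

set_option backward.isDefEq.respectTransparency false

noncomputable section

namespace GrothLib.SymEmbed24

variable {X : Scheme.{u}} {κ : Type u} (F : κ → X.Modules)

/-- The inclusion of a finite partial sum. -/
def sumIncl (s : Finset κ) : (∐ fun k : s => F k.1) ⟶ ∐ F := Sigma.desc fun k => Sigma.ι F k.1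

theorem range_sumIncl_mono {s t : Finset κ} (h : s ⊆ t) (W : X.Opens) :
    Set.range ((sumIncl F s).app W) ⊆ Set.range ((sumIncl F t).app W) := by
  rintro _ ⟨x, rfl⟩
  let q : (∐ fun k : s => F k.1) ⟶ ∐ fun k : t => F k.1 :=
    Sigma.desc fun k => Sigma.ι (fun k : t => F k.1) ⟨k.1, h k.2⟩
  refine ⟨q.app W x, ?_⟩
  have e : q ≫ sumIncl F t = sumIncl F s := Sigma.hom_ext _ _ fun k => by
    simp only [q, sumIncl, colimit.ι_desc_assoc, colimit.ι_desc]
    simp
  exact congrArg (fun r => r.app W x) e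

theorem exists_finset_mem_range (hF : ∀ k, (F k).IsQuasicoherent) {W : X.Opens} (hW : IsAffineOpen W)
    (x : Γ(∐ F, W)) : ∃ s : Finset κ, x ∈ Set.range ((sumIncl F s).app W) := by
  classical
  let H : AddSubgroup Γ(∐ F, W) :=
    { carrier := {x | ∃ s : Finset κ, x ∈ Set.range ((sumIncl F s).app W)}
      zero_mem' := ⟨∅, 0, map_zero _⟩
      add_mem' := by
        rintro a b ⟨s, hs⟩ ⟨t, ht⟩
        obtain ⟨a', rfl⟩ := range_sumIncl_mono F (Finset.subset_union_left (s₁ := s) (s₂ := t)) W hs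
        obtain ⟨b', rfl⟩ := range_sumIncl_mono F (Finset.subset_union_right (s₁ := s) (s₂ := t)) W ht
        exact ⟨s ∪ t, a' + b', map_add _ _ _⟩
      neg_mem' := by
        rintro a ⟨s, a', rfl⟩
        exact ⟨s, -a', map_neg _ _⟩ }
  haveI := DirImg8.preservesColimit_secAb (Discrete.functor F) (fun k => hF k.as) hW
  have hc := isColimitOfPreserves (DirImg8.secAb W) (colimit.isColimit (Discrete.functor F))
  let q : (DirImg8.secAb W).obj (∐ F) ⟶ AddCommGrpCat.of (Γ(∐ F, W) ⧸ H) :=
    AddCommGrpCat.ofHom (QuotientAddGroup.mk' H)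
  have hq : q = 0 := by
    refine hc.hom_ext fun k => AddCommGrpCat.hom_ext (AddMonoidHom.ext fun y => ?_)
    show QuotientAddGroup.mk' H ((Sigma.ι F k.as).app W y) = 0
    refine (QuotientAddGroup.eq_zero_iff _).2 ⟨{k.as}, ?_⟩
    let k' : ({k.as} : Finset κ) := ⟨k.as, Finset.mem_singleton_self _⟩
    refine ⟨(Sigma.ι (fun j : ({k.as} : Finset κ) => F j.1) k').app W y, ?_⟩
    have e : Sigma.ι (fun j : ({k.as} : Finset κ) => F j.1) k' ≫ sumIncl F {k.as} = Sigma.ι F k.as :=
      Sigma.ι_desc _ _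
    exact congrArg (fun r => r.app W y) e
  exact (QuotientAddGroup.eq_zero_iff x).1 (congrArg (fun r : _ ⟶ AddCommGrpCat.of (Γ(∐ F, W) ⧸ H) => r.hom x) hq)

end GrothLib.SymEmbed24
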